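import Groth.Prelude.Def_RelSpec
import Groth.Prelude.Def_Mor2
import Groth.Agent.L16.ImmStage.Basic
import Groth.Agent.L19.QADescent

/-!
# Quasi-affine morphisms of finite type: immersions into affine morphisms of finite type
-/

set_option autoImplicit false
set_option linter.style.haveILetI false
set_option backward.isDefEq.respectTransparency.types false
set_option backward.isDefEq.respectTransparency false
set_option backward.defeqAttrib.useBackward true

universe u

open CategoryTheory CategoryTheory.Limits AlgebraicGeometry TopologicalSpace Opposite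
open AlgebraicGeometry.Scheme AlgebraicGeometry.Scheme.AffineZariskiSite
open RelSpec Groth.L19.Approx

namespace Groth.L16.QAffFactor

variable {X Y : Scheme.{u}} (f : X ⟶ Y) [QuasiCompact f] [QuasiSeparated f]

theorem toHull_compat {U V : Y.AffineZariskiSite} (i : U ⟶ V) :
    Cover.trans ((directedCover Y).pullback₁ f) i ≫ (pullbackRestrictIsoRestrict f V.1).hom ≫
        (f ⁻¹ᵁ V.1).toSpecΓ ≫ (QCAlg.directImage f).ι V.1 V.2 =
      (pullbackRestrictIsoRestrict f U.1).hom ≫ (f ⁻¹ᵁ U.1).toSpecΓ ≫ (QCAlg.directImage f).ι U.1 U.2 := by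
  have : (pullbackRestrictIsoRestrict f U.1).inv ≫
      Cover.trans ((directedCover Y).pullback₁ f) i ≫
      (pullbackRestrictIsoRestrict f V.1).hom = X.homOfLE
        (f.preimage_mono (toOpens_mono i.1.1)) := by
    rw [← cancel_mono (Scheme.Opens.ι _)]
    simp +instances [Cover.trans, Cover.locallyDirectedPullbackCover]
  rw [← Iso.inv_comp_eq, reassoc_of% this, ← Scheme.Opens.toSpecΓ_SpecMap_presheaf_map_assoc,
    ← (QCAlg.directImage f).ι_res i]
  rfl

/-- The affine hull. -/
noncomputable def toHull : X ⟶ (QCAlg.directImage f).spec :=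
  Scheme.OpenCover.glueMorphismsOfLocallyDirected
    ((directedCover Y).pullback₁ f)
    (fun U => (pullbackRestrictIsoRestrict f _).hom ≫ (f ⁻¹ᵁ U.1).toSpecΓ ≫
      (QCAlg.directImage f).ι U.1 U.2) (toHull_compat f)

theorem ι_toHull (U : Y.affineOpens) :
    (f ⁻¹ᵁ U.1).ι ≫ toHull f = (f ⁻¹ᵁ U.1).toSpecΓ ≫ (QCAlg.directImage f).ι U.1 U.2 := by
  rw [← cancel_epi (pullbackRestrictIsoRestrict f U.1).hom, ← Category.assoc]
  trans ((directedCover Y).pullback₁ f).f U ≫ toHull f
  · congr 1; simp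
  delta toHull
  exact Scheme.OpenCover.map_glueMorphismsOfLocallyDirected _ _ (toHull_compat f) _

theorem toHull_π : toHull f ≫ (QCAlg.directImage f).π = f := by
  refine Scheme.Cover.hom_ext (X.openCoverOfIsOpenCover _
    (.comap (iSup_affineOpens_eq_top Y) f.base.hom)) _ _ fun U ↦ ?_
  show (f ⁻¹ᵁ U.1).ι ≫ toHull f ≫ (QCAlg.directImage f).π = (f ⁻¹ᵁ U.1).ι ≫ f
  rw [← Category.assoc, ι_toHull, Category.assoc, QCAlg.ι_π]
  show (f ⁻¹ᵁ U.1).toSpecΓ ≫ Spec.map (f.app U.1) ≫ U.2.fromSpec = _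
  rw [Scheme.Hom.app_eq_appLE]
  simp

theorem isOpenImmersion_toHull (hf : Mor2.IsQuasiAffine f) : IsOpenImmersion (toHull f) := by
  have hloc : ∀ U : Y.affineOpens, IsOpenImmersion ((f ⁻¹ᵁ U.1).ι ≫ toHull f) := fun U => by
    haveI := hf.2 U.1 U.2
    rw [ι_toHull]
    haveI : IsOpenImmersion (f ⁻¹ᵁ U.1).toSpecΓ := by
      rw [Scheme.Opens.toSpecΓ]; infer_instance
    infer_instance
  have hπ : ∀ x, (QCAlg.directImage f).π (toHull f x) = f x := fun x => by
    rw [← Scheme.Hom.comp_apply, toHull_π]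
  refine IsOpenImmersion.of_forall_source_exists _ (fun x y hxy => ?_) fun x => ?_
  · obtain ⟨_, ⟨U, hU, rfl⟩, hxU, -⟩ :=
      Y.isBasis_affineOpens.exists_subset_of_mem_open (Set.mem_univ (f x)) isOpen_univ
    have hyU : f y ∈ U := by rw [← hπ, ← hxy, hπ]; exact hxU
    haveI := hloc ⟨U, hU⟩
    exact congrArg Subtype.val (((f ⁻¹ᵁ U).ι ≫ toHull f).isOpenEmbedding.injective
      (a₁ := ⟨x, hxU⟩) (a₂ := ⟨y, hyU⟩) (by simpa using hxy))
  · obtain ⟨_, ⟨U, hU, rfl⟩, hxU, -⟩ :=
      Y.isBasis_affineOpens.exists_subset_of_mem_open (Set.mem_univ (f x)) isOpen_univ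
    exact ⟨_, (f ⁻¹ᵁ U).ι, inferInstance, by rw [Scheme.Opens.opensRange_ι]; exact hxU, hloc ⟨U, hU⟩⟩

/-- A quasi-affine morphism of finite type is an immersion followed by an affine morphism of finite
type. -/
theorem exists_immersion_affine {X S : Scheme.{u}} (f : X ⟶ S) [CompactSpace S]
    [QuasiSeparatedSpace S] [LocallyOfFiniteType f] (hf : Mor2.IsQuasiAffine f) :
    ∃ (T : Scheme.{u}) (g : T ⟶ S) (j : X ⟶ T), IsAffineHom g ∧ LocallyOfFiniteType g ∧
      IsImmersion j ∧ j ≫ g = f := by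
  haveI := hf.1
  haveI := Groth.L19.QADescent.quasiSeparated_of_quasiAffine f hf
  let h := (QCAlg.directImage f).π
  let j := toHull f
  haveI := isOpenImmersion_toHull f hf
  haveI : CompactSpace X := QuasiCompact.compactSpace_of_compactSpace f
  have hcof : Cofinal h (⊤ : MorphismProperty Scheme.{u}) := fun {_} => cofinal_top h
  haveI := isDirected_idx hcof
  haveI := nonempty_idx hcof
  let D := system h (⊤ : MorphismProperty Scheme.{u})
  let F := D ⋙ Over.forget S
  let c := (Over.forget S).mapCone (cone h (⊤ : MorphismProperty Scheme.{u}))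
  haveI : IsConnected (Idx h (⊤ : MorphismProperty Scheme.{u}))ᵒᵖ :=
    IsCofiltered.isConnected _
  have hc : IsLimit c := isLimitOfPreserves (Over.forget S) (nonempty_isLimit_cone h _ hcof).some
  haveI : ∀ i, IsAffineHom (D.obj i).hom := fun i => isAffineHom_system_hom h _ i
  haveI : ∀ i, LocallyOfFinitePresentation (D.obj i).hom := fun i => lfp_system_hom h _ i
  haveI : ∀ {i i'} (a : i ⟶ i'), IsAffineHom (F.map a) := fun a => isAffineHom_system_map h _ a
  have hw : ∀ i, c.π.app i ≫ (D.obj i).hom = h := fun i =>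
    Over.w ((cone h (⊤ : MorphismProperty Scheme.{u})).π.app i)
  have hft : ∀ i, LocallyOfFiniteType ((j : X ⟶ c.pt) ≫ c.π.app i) := fun i => by
    haveI : LocallyOfFiniteType (((j : X ⟶ c.pt) ≫ c.π.app i) ≫ (D.obj i).hom) := by
      rw [Category.assoc, hw i]
      exact (toHull_π f).symm ▸ (inferInstance : LocallyOfFiniteType f)
    exact locallyOfFiniteType_of_comp _ (D.obj i).hom
  haveI : IsOpenImmersion (j : X ⟶ c.pt) := inferInstanceAs (IsOpenImmersion (toHull f))
  obtain ⟨k, hk⟩ := exists_isImmersion_of_isOpenImmersion hc (j : X ⟶ c.pt) hft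
  exact ⟨(D.obj k).left, (D.obj k).hom, (j : X ⟶ c.pt) ≫ c.π.app k, inferInstance, inferInstance, hk,
    (Category.assoc _ _ _).trans ((congrArg (_ ≫ ·) (hw k)).trans (toHull_π f))⟩

end Groth.L16.QAffFactor
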